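import Groth.Agent.Curves.K82.GenusOneSys
import Groth.Agent.Curves.K386.NormGen
import Groth.Agent.Sga2lef.H24.ToPn
import Groth.Prelude.Def_SecTwist

/-!
# Normal generation on integral curves of arithmetic genus one: the theorem

`X` integral, proper over an infinite field `k`, of dimension one with `dim_k H^1(X, O_X) = 1`, and `L` an
invertible module of degree at least three: the section ring of `L` is generated in degree one.
-/

set_option autoImplicit false
universe u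
open CategoryTheory CategoryTheory.Limits AlgebraicGeometry TopologicalSpace Opposite

namespace K82.GenusOneSys

open Groth.Agent.Fdesc.LocGen Groth.Agent.Ega2 Groth.Agent.Ega2.TensPow Groth.Agent.CurvesB
open K82.GenusOneSec K82.SubAlg

variable (k : Type u) [Field k] {X : Scheme.{u}} [X.Over (Spec (CommRingCat.of k))] {L : X.Modules}

theorem exists_two_term (s t : Coh.structureModule X ⟶ L) (m : ℕ) (w : Γ(CohB1.tensorPow L (m + 1 + 1), ⊤))
    (hw : ∃ v, (Groth.Agent.Curves.K327.Koszul.kp s t (CohB1.tensorPow L m)).app ⊤ v = w) :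
    ∃ v1 v2 : Γ(CohB1.tensorPow L (m + 1), ⊤), q s (m + 1 + 1) w =
      q s (m + 1) v1 + q1 s (Groth.Agent.Fdesc.LocGen.sec t ⊤) * q s (m + 1) v2 := by
  obtain ⟨v, hv⟩ := hw
  have h1 := (Groth.Agent.Curves.K327.Koszul.kp_app
    (Groth.Agent.Curves.K327.Koszul.ms s (CohB1.tensorMod (CohB1.tensorPow L m) L))
    (Groth.Agent.Curves.K327.Koszul.ms t (CohB1.tensorMod (CohB1.tensorPow L m) L)) ⊤ v).symm.trans hv
  rw [Groth.Agent.Curves.K327.Koszul.ms_app, Groth.Agent.Curves.K327.Koszul.ms_app] at h1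
  let v1 : Γ(CohB1.tensorPow L (m + 1), ⊤) :=
    (biprod.fst : _ ⊞ _ ⟶ CohB1.tensorMod (CohB1.tensorPow L m) L).app ⊤ v
  let v2 : Γ(CohB1.tensorPow L (m + 1), ⊤) :=
    (biprod.snd : _ ⊞ _ ⟶ CohB1.tensorMod (CohB1.tensorPow L m) L).app ⊤ v
  let A : Γ(CohB1.tensorPow L (m + 1 + 1), ⊤) := tmul v1 (Groth.Agent.Fdesc.LocGen.sec s ⊤)
  let B : Γ(CohB1.tensorPow L (m + 1 + 1), ⊤) := tmul v2 (Groth.Agent.Fdesc.LocGen.sec t ⊤)
  have hAB : w = A + B := h1.symm
  have hA : q s (m + 1 + 1) A = q s (m + 1) v1 * q1 s (Groth.Agent.Fdesc.LocGen.sec s ⊤) := q_tmul s _ _ _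
  have hB : q s (m + 1 + 1) B = q s (m + 1) v2 * q1 s (Groth.Agent.Fdesc.LocGen.sec t ⊤) := q_tmul s _ _ _
  refine ⟨v1, v2, ?_⟩
  rw [hAB, q_add, hA, hB, q1_self, mul_one, mul_comm (q s (m + 1) v2)]

/-- Sections which are sums of products. -/
noncomputable def prods (L : X.Modules) (n : ℕ) : AddSubgroup Γ(CohB1.tensorPow L (n + 1), ⊤) :=
  AddSubgroup.closure {t | ∃ (m : Γ(CohB1.tensorPow L n, ⊤)) (s : Γ(L, ⊤)), t = tmul m s}

theorem mem_prods_of_kp (s t : Coh.structureModule X ⟶ L) (m : ℕ) (w : Γ(CohB1.tensorPow L (m + 1 + 1), ⊤))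
    (hw : ∃ v, (Groth.Agent.Curves.K327.Koszul.kp s t (CohB1.tensorPow L m)).app ⊤ v = w) :
    w ∈ prods L (m + 1) := by
  obtain ⟨v, hv⟩ := hw
  have h1 := (Groth.Agent.Curves.K327.Koszul.kp_app
    (Groth.Agent.Curves.K327.Koszul.ms s (CohB1.tensorMod (CohB1.tensorPow L m) L))
    (Groth.Agent.Curves.K327.Koszul.ms t (CohB1.tensorMod (CohB1.tensorPow L m) L)) ⊤ v).symm.trans hv
  rw [Groth.Agent.Curves.K327.Koszul.ms_app, Groth.Agent.Curves.K327.Koszul.ms_app] at h1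
  let v1 : Γ(CohB1.tensorPow L (m + 1), ⊤) :=
    (biprod.fst : _ ⊞ _ ⟶ CohB1.tensorMod (CohB1.tensorPow L m) L).app ⊤ v
  let v2 : Γ(CohB1.tensorPow L (m + 1), ⊤) :=
    (biprod.snd : _ ⊞ _ ⟶ CohB1.tensorMod (CohB1.tensorPow L m) L).app ⊤ v
  let A : Γ(CohB1.tensorPow L (m + 1 + 1), ⊤) := tmul v1 (Groth.Agent.Fdesc.LocGen.sec s ⊤)
  let B : Γ(CohB1.tensorPow L (m + 1 + 1), ⊤) := tmul v2 (Groth.Agent.Fdesc.LocGen.sec t ⊤)
  have hAB : w = A + B := h1.symm
  rw [hAB]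
  exact add_mem (AddSubgroup.subset_closure ⟨v1, _, rfl⟩) (AddSubgroup.subset_closure ⟨v2, _, rfl⟩)

section Curve

variable [IsIntegral X] [IsProper (X ↘ (Spec (CommRingCat.of k)))] (hdim : topologicalKrullDim X = 1)
  (hg : Curv2.genus k X = 1) (hL : PicF.IsInvertible L)

include hdim hg hL in
/-- The section ring satisfies the hypotheses of the algebraic statement. -/
theorem sys (d : ℕ) (hd : Curv2.deg k X L 1 = d) (hd1 : 1 ≤ d) (s t : Coh.structureModule X ⟶ L)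
    (hcov : ∀ x : X, x ∈ CohB1.genLocus L s ∨ x ∈ CohB1.genLocus L t)
    (hU : (CohB1.genLocus L s : Set X).Nonempty) :
    letI := alg k s
    Sys (fun n => LinearMap.range (Q k s n)) (q1 s (Groth.Agent.Fdesc.LocGen.sec t ⊤)) d := by
  let := alg k s
  have hN : IsNoetherian X := K817.VeryAmple.isNoetherian k X
  have hne : Nonempty (CohB1.genLocus L s) := by
    obtain ⟨x, hx⟩ := hU
    exact ⟨⟨x, hx⟩⟩
  have h0 := Groth.Agent.Curves.K327.GenusOneH0.finrank_h0_eq_one k X hg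
  have hinj : ∀ n, Function.Injective (Q k s n) := fun n =>
    (q_injective s hL hU n).comp (HZero.equivAdd _).injective
  have hfin : ∀ n, Module.Finite k (Coh.HH X (CohB1.tensorPow L n) 0) := fun n =>
    Groth.Agent.VarietyA.CurveFin.finite_HH k X (isInvertible_tensorPow hL n) 0
  have hdim' : ∀ n, 1 ≤ n → Module.finrank k (LinearMap.range (Q k s n)) = n * d := fun n hn => by
    rw [LinearMap.finrank_range_of_inj (hinj n), finrank_H0 k hdim hg hL d hd hd1 n hn]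
  have hgen : ∀ n, 2 ≤ n → ∀ z ∈ LinearMap.range (Q k s (n + 1)), ∃ a ∈ LinearMap.range (Q k s n),
      ∃ b ∈ LinearMap.range (Q k s n), z = a + q1 s (Groth.Agent.Fdesc.LocGen.sec t ⊤) * b := by
    intro n hn z hz
    obtain ⟨m, rfl⟩ : ∃ m, n = m + 1 + 1 := ⟨n - 2, by omega⟩
    obtain ⟨w, rfl⟩ := (mem_range_Q k s _ z).1 hz
    obtain ⟨v, hv⟩ := Groth.Agent.Curves.K327.Koszul.kp_surjective s t (CohB1.tensorPow L (m + 1)) hcov hdim.le
      (subsingleton_H1 k hdim hg hL (by rw [hd]; exact_mod_cast hd1) m) w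
    obtain ⟨v1, v2, h⟩ := exists_two_term s t (m + 1) w ⟨v, hv⟩
    exact ⟨_, (mem_range_Q k s _ _).2 ⟨v1, rfl⟩, _, (mem_range_Q k s _ _).2 ⟨v2, rfl⟩, h⟩
  have hone : (1 : Γ(X, CohB1.genLocus L s)) ∈ LinearMap.range (Q k s 1) :=
    (mem_range_Q k s _ _).2 ⟨tmul (one ⊤) (Groth.Agent.Fdesc.LocGen.sec s ⊤), by
      rw [q_one_tmul, q1_self]⟩
  refine ⟨(mem_range_Q k s _ _).2 ⟨one ⊤, q_one s⟩, ?_, hone, ?_, ?_, ?_, ?_, hdim', hgen, ?_⟩
  · rw [LinearMap.finrank_range_of_inj (hinj 0)]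
    exact h0
  · intro m n a b ha hb
    obtain ⟨a, rfl⟩ := (mem_range_Q k s _ _).1 ha
    obtain ⟨b, rfl⟩ := (mem_range_Q k s _ _).1 hb
    exact (mem_range_Q k s _ _).2 ⟨_, q_powAdd s m n a b⟩
  · exact (mem_range_Q k s _ _).2 ⟨tmul (one ⊤) (Groth.Agent.Fdesc.LocGen.sec t ⊤), q_one_tmul s _⟩
  · intro hx
    rw [hx] at hgen
    have hle : LinearMap.range (Q k s 3) ≤ LinearMap.range (Q k s 2) := by
      intro z hz
      obtain ⟨a, ha, b, hb, rfl⟩ := hgen 2 le_rfl z hz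
      rw [zero_mul, add_zero]
      exact ha
    have hf2 : Module.Finite k (LinearMap.range (Q k s 2)) := by
      have := hfin 2
      infer_instance
    have h1 := Submodule.finrank_mono hle
    rw [hdim' 3 (by norm_num), hdim' 2 (by norm_num)] at h1
    omega
  · intro n
    have := hfin n
    infer_instance
  · intro m v hv hxv
    obtain ⟨a, rfl⟩ := (mem_range_Q k s _ _).1 hv
    obtain ⟨b, hb⟩ := (mem_range_Q k s _ _).1 hxv
    obtain ⟨c, hc⟩ := exists_div s t hcov m a b hb.symm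
    exact (mem_range_Q k s _ _).2 ⟨c, hc⟩

include hdim hg hL in
/-- **Normal generation**: the sections of `L^(n+1)` are sums of products of sections of `L^n` and `L`. -/
theorem prods_eq_top [Infinite k] (hdeg : 3 ≤ Curv2.deg k X L 1) (n : ℕ) : prods L n = ⊤ := by
  have hN : IsNoetherian X := K817.VeryAmple.isNoetherian k X
  have hgg : Curv2.IsGloballyGenerated L :=
    Groth.Agent.Curves.K327.GenusOneH0.isGloballyGenerated_of_two_le k X hdim hg L hL (by omega)
  obtain ⟨s, t, hcov, hU⟩ : ∃ s t : Coh.structureModule X ⟶ L,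
      (∀ x : X, x ∈ CohB1.genLocus L s ∨ x ∈ CohB1.genLocus L t) ∧
      (CohB1.genLocus L s : Set X).Nonempty := by
    obtain ⟨s, t, hcov⟩ := Groth.Agent.Curves.K327.TwoSec.exists_two (k := k) hdim.le hL hgg
    rcases hcov (genericPoint X) with h | h
    · exact ⟨s, t, hcov, ⟨_, h⟩⟩
    · exact ⟨t, s, fun x => (hcov x).symm, ⟨_, h⟩⟩
  rw [eq_top_iff]
  rintro z -
  match n, z with
  | 0, z =>
    obtain ⟨b, rfl⟩ := exists_one z
    exact AddSubgroup.subset_closure ⟨one ⊤, b, rfl⟩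
  | 1, z =>
    obtain ⟨d, hd⟩ : ∃ d : ℕ, Curv2.deg k X L 1 = d := ⟨(Curv2.deg k X L 1).toNat, by omega⟩
    have hd3 : 3 ≤ d := by rw [hd] at hdeg; exact_mod_cast hdeg
    let := alg k s
    have hne : Nonempty (CohB1.genLocus L s) := by
      obtain ⟨x, hx⟩ := hU
      exact ⟨⟨x, hx⟩⟩
    have hsys := sys k hdim hg hL d hd (by omega) s t hcov hU
    have hmul := hsys.mul_self_eq hd3
    have key : ∀ y ∈ LinearMap.range (Q k s 1) * LinearMap.range (Q k s 1),
        ∃ z' ∈ prods L 1, q s 2 z' = y := by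
      intro y hy
      refine Submodule.mul_induction_on hy ?_ ?_
      · intro a ha b hb
        obtain ⟨a, rfl⟩ := (mem_range_Q k s _ _).1 ha
        obtain ⟨b, rfl⟩ := (mem_range_Q k s _ _).1 hb
        obtain ⟨b, rfl⟩ := exists_one b
        refine ⟨tmul a b, AddSubgroup.subset_closure ⟨a, b, rfl⟩, ?_⟩
        exact (q_tmul s 1 a b).trans (congrArg (q s 1 a * ·) (q_one_tmul s b).symm)
      · rintro a b ⟨a', ha', rfl⟩ ⟨b', hb', rfl⟩
        exact ⟨a' + b', add_mem ha' hb', q_add s _ _ _⟩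
    obtain ⟨z', hz', h⟩ := key (q s 2 z) (by
      rw [hmul]
      exact (mem_range_Q k s _ _).2 ⟨z, rfl⟩)
    rw [← q_injective s hL hU 2 h]
    exact hz'
  | m + 1 + 1, z =>
    exact mem_prods_of_kp s t (m + 1) z (Groth.Agent.Curves.K327.Koszul.kp_surjective s t
      (CohB1.tensorPow L (m + 1)) hcov hdim.le
      (subsingleton_H1 k hdim hg hL (by omega) m) z)

include hdim hg hL in
theorem span_eq_top [Infinite k] (hdeg : 3 ≤ Curv2.deg k X L 1) (m : ℕ) :
    Submodule.span (X.ringCatSheaf.obj.obj (Opposite.op ⊤))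
        (Set.range (fun p : (CohB1.tensorPow L m).val.obj (Opposite.op ⊤) × L.val.obj (Opposite.op ⊤) =>
          SecTwist.tmul (CohB1.tensorPow L m) L ⊤ p.1 p.2)) = ⊤ := by
  rw [eq_top_iff]
  rintro z -
  have h1 : (z : Γ(CohB1.tensorPow L (m + 1), ⊤)) ∈ prods L m := by
    rw [prods_eq_top k hdim hg hL hdeg m]
    trivial
  unfold prods at h1
  induction h1 using AddSubgroup.closure_induction with
  | mem x hx =>
    obtain ⟨a, b, rfl⟩ := hx
    exact Submodule.subset_span ⟨(a, b), rfl⟩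
  | zero => exact Submodule.zero_mem _
  | add x y _ _ hx hy => exact Submodule.add_mem _ hx hy
  | neg x _ hx => exact Submodule.neg_mem _ hx

include hdim hg hL in
/-- **Very ampleness.** -/
theorem exists_closedImmersion [Infinite k] (hdeg : 3 ≤ Curv2.deg k X L 1) :
    ∃ (n : ℕ) (i : X ⟶ CohB1.ProjSpace n k), IsClosedImmersion i ∧
      i ≫ CohB1.ProjSpace.toSpec n k = X ↘ (Spec (CommRingCat.of k)) ∧
      Nonempty ((Scheme.Modules.pullback i).obj (Twist.twistProjSpace n k 1) ≅ L) := by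
  have hamp : CohB1.IsAmple L := (Groth.Agent.S1530.result k X hdim L hL).2 (by omega)
  have h := (K386.NormGen.isRelVeryAmplePn_of_normallyGenerated (X ↘ (Spec (CommRingCat.of k))) hL hamp
    (fun n _ => prods_eq_top k hdim hg hL hdeg n)).2
  obtain ⟨r, j, hj, hjf, ⟨e⟩⟩ := Groth.Agent.Sga2lef.H24.ToPn.exists_closedImmersion _ L h
  exact ⟨r, j, hj, hjf, ⟨e.symm⟩⟩

end Curve

end K82.GenusOneSys
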