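import Groth.Agent.Curves.K82.SubAlg
import Groth.Agent.Curves.K327.TwoSec
import Groth.Agent.Fdesc.CurveMap
import Groth.Agent.Ega2.TensPow
import Groth.Agent.S1530

/-!
# Sections of the powers of a globally generated invertible module on an integral scheme

For a section `s` of `L` the sections of `L^n` are written as functions on the locus where `s` generates.
-/

set_option autoImplicit false
universe u
open CategoryTheory CategoryTheory.Limits AlgebraicGeometry TopologicalSpace Opposite

namespace K82.GenusOneSec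

open Groth.Agent.Fdesc.LocGen Groth.Agent.Ega2 Groth.Agent.Ega2.TensPow Groth.Agent.CurvesB

variable {X : Scheme.{u}} {L : X.Modules}

section Quot

variable (s : Coh.structureModule X ⟶ L)

/-- A section of `L^n` divided by `s^n`. -/
noncomputable def q (n : ℕ) (m : Γ(CohB1.tensorPow L n, ⊤)) : Γ(X, CohB1.genLocus L s) :=
  (((isGen_sec_genLocus s).pow n).exists_eq (res _ le_top m)).choose

theorem q_spec (n : ℕ) (m : Γ(CohB1.tensorPow L n, ⊤)) :
    res (CohB1.tensorPow L n) le_top m = q s n m • pow (sec s (CohB1.genLocus L s)) n :=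
  (((isGen_sec_genLocus s).pow n).exists_eq (res _ le_top m)).choose_spec

theorem q_unique {n : ℕ} {m : Γ(CohB1.tensorPow L n, ⊤)} {a : Γ(X, CohB1.genLocus L s)}
    (h : res (CohB1.tensorPow L n) le_top m = a • pow (sec s (CohB1.genLocus L s)) n) :
    q s n m = a :=
  ((isGen_sec_genLocus s).pow n).ext ((q_spec s n m).symm.trans h)

theorem q_add (n : ℕ) (m m' : Γ(CohB1.tensorPow L n, ⊤)) : q s n (m + m') = q s n m + q s n m' := by
  apply q_unique
  rw [map_add, q_spec, q_spec, add_smul]

theorem q_zero (n : ℕ) : q s n 0 = 0 := by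
  apply q_unique
  rw [map_zero, zero_smul]

theorem q_smul (n : ℕ) (r : Γ(X, ⊤)) (m : Γ(CohB1.tensorPow L n, ⊤)) :
    q s n (r • m) = ores le_top r * q s n m := by
  apply q_unique
  rw [res_smul, q_spec, smul_smul]

theorem q_one : q s 0 (one ⊤) = 1 := by
  apply q_unique
  rw [one_smul]
  exact res_one le_top

/-- A section of `L` divided by `s`. -/
noncomputable def q1 (m : Γ(L, ⊤)) : Γ(X, CohB1.genLocus L s) :=
  ((isGen_sec_genLocus s).exists_eq (res _ le_top m)).choose

theorem q1_spec (m : Γ(L, ⊤)) : res L le_top m = q1 s m • sec s (CohB1.genLocus L s) :=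
  ((isGen_sec_genLocus s).exists_eq (res _ le_top m)).choose_spec

theorem q1_unique {m : Γ(L, ⊤)} {a : Γ(X, CohB1.genLocus L s)}
    (h : res L le_top m = a • sec s (CohB1.genLocus L s)) : q1 s m = a :=
  (isGen_sec_genLocus s).ext ((q1_spec s m).symm.trans h)

theorem q1_self : q1 s (sec s ⊤) = 1 := by
  apply q1_unique
  rw [res_sec, one_smul]

theorem q_tmul (n : ℕ) (a : Γ(CohB1.tensorPow L n, ⊤)) (b : Γ(L, ⊤)) :
    q s (n + 1) (tmul a b) = q s n a * q1 s b := by
  apply q_unique
  change res (CohB1.tensorMod (CohB1.tensorPow L n) L) le_top (tmul a b) =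
    (q s n a * q1 s b) • tmul (pow (sec s (CohB1.genLocus L s)) n) (sec s (CohB1.genLocus L s))
  rw [res_tmul, q_spec, q1_spec, smul_tmul, tmul_smul, smul_smul]

theorem q_powAdd (m n : ℕ) (a : Γ(CohB1.tensorPow L m, ⊤)) (b : Γ(CohB1.tensorPow L n, ⊤)) :
    q s (m + n) ((powAdd L m n).hom.app ⊤ (tmul a b)) = q s m a * q s n b := by
  apply q_unique
  rw [← app_res, res_tmul, q_spec, q_spec, smul_tmul, tmul_smul, Scheme.Modules.Hom.app_smul,
    Scheme.Modules.Hom.app_smul, smul_smul, powAdd_pow]

/-- Sections of `L^1` are sections of `L`. -/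
theorem exists_one (a : Γ(CohB1.tensorPow L 1, ⊤)) : ∃ b : Γ(L, ⊤), a = tmul (one ⊤) b :=
  ⟨(Tens.lunit L).hom.app ⊤ a, (symm_app_app (Tens.lunit L) a).symm⟩

theorem q_one_tmul (b : Γ(L, ⊤)) : q s 1 (tmul (one ⊤) b) = q1 s b := by
  have h := q_tmul s 0 (one ⊤) b
  rw [q_one, one_mul] at h
  exact h

end Quot

section Inj

variable (s : Coh.structureModule X ⟶ L)

theorem q_injective [IsIntegral X] (hL : PicF.IsInvertible L)
    (hU : (CohB1.genLocus L s : Set X).Nonempty) (n : ℕ) : Function.Injective (q s n) := by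
  intro a b hab
  apply Groth.Agent.Fdesc.CurveMap.res_injective (isInvertible_tensorPow hL n)
    (le_top : CohB1.genLocus L s ≤ ⊤) hU
  rw [q_spec, q_spec, hab]

variable (t : Coh.structureModule X ⟶ L)

/-- The Koszul relation. -/
theorem exists_div (hcov : ∀ x : X, x ∈ CohB1.genLocus L s ∨ x ∈ CohB1.genLocus L t) (m : ℕ)
    (a b : Γ(CohB1.tensorPow L (m + 1), ⊤))
    (h : q1 s (sec t ⊤) * q s (m + 1) a = q s (m + 1) b) :
    ∃ c : Γ(CohB1.tensorPow L m, ⊤), q s m c = q s (m + 1) a := by
  set U := CohB1.genLocus L s with hUdef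
  set V := CohB1.genLocus L t with hVdef
  set x := q1 s (sec t ⊤) with hx
  have hgU : IsGen (sec s U) := isGen_sec_genLocus s
  have hgV : IsGen (sec t V) := isGen_sec_genLocus t
  obtain ⟨β, hβ⟩ := (hgV.pow (m + 1)).exists_eq (res (CohB1.tensorPow L (m + 1)) le_top b)
  let W : Bool → X.Opens := fun i => cond i U V
  have hcover : (⊤ : X.Opens) ≤ ⨆ i, W i := by
    intro y _
    rw [Opens.mem_iSup]
    rcases hcov y with hy | hy
    · exact ⟨true, hy⟩
    · exact ⟨false, hy⟩
  -- comparison on the overlap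
  have hkey : res (CohB1.tensorPow L m) (inf_le_left : U ⊓ V ≤ U) (q s (m + 1) a • pow (sec s U) m) =
      res (CohB1.tensorPow L m) (inf_le_right : U ⊓ V ≤ V) (β • pow (sec t V) m) := by
    have hgW : IsGen (sec s (U ⊓ V)) := by
      have := hgU.res (inf_le_left : U ⊓ V ≤ U)
      rwa [res_sec] at this
    have ht : sec t (U ⊓ V) = ores (inf_le_left : U ⊓ V ≤ U) x • sec s (U ⊓ V) := by
      have h1 := congrArg (res L (inf_le_left : U ⊓ V ≤ U)) (q1_spec s (sec t ⊤))
      rw [res_res, res_sec, res_smul, res_sec] at h1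
      exact h1
    have hunit : IsUnit (ores (inf_le_left : U ⊓ V ≤ U) x) := by
      apply hgW.isUnit_of_smul
      rw [← ht]
      have := hgV.res (inf_le_right : U ⊓ V ≤ V)
      rwa [res_sec] at this
    have hb : ores (inf_le_left : U ⊓ V ≤ U) (q s (m + 1) b) =
        ores (inf_le_right : U ⊓ V ≤ V) β * ores (inf_le_left : U ⊓ V ≤ U) x ^ (m + 1) := by
      apply (hgW.pow (m + 1)).ext
      have h1 := congrArg (res (CohB1.tensorPow L (m + 1)) (inf_le_left : U ⊓ V ≤ U)) (q_spec s (m + 1) b)
      have h2 := congrArg (res (CohB1.tensorPow L (m + 1)) (inf_le_right : U ⊓ V ≤ V)) hβ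
      rw [res_res, res_smul, res_pow, res_sec] at h1 h2
      rw [← h1, mul_smul, ← smul_pow, ← ht, ← h2]
    rw [← h, map_mul, pow_succ, ← mul_assoc, mul_comm] at hb
    have hb2 := hunit.mul_right_cancel hb
    rw [res_smul, res_smul, res_pow, res_pow, res_sec, res_sec, ht, smul_pow, smul_smul, hb2]
  obtain ⟨c, hc⟩ := res_glue (CohB1.tensorPow L m) W (fun i => le_top) hcover
    (fun i => match i with
      | true => q s (m + 1) a • pow (sec s U) m
      | false => β • pow (sec t V) m) (by
    intro i j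
    match i, j with
    | true, true => rfl
    | false, false => rfl
    | true, false => exact hkey
    | false, true =>
      have h1 := congrArg (res (CohB1.tensorPow L m) (le_of_eq (inf_comm V U))) hkey
      rw [res_res, res_res] at h1
      exact h1.symm)
  exact ⟨c, q_unique s (hc true)⟩

end Inj

end K82.GenusOneSec
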