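import Groth.Agent.Curves.K82.GenusOneSec
import Groth.Agent.Curves.K327.GenusOneH0
import Groth.Agent.Curves.K333.FibreVA
import Groth.Agent.AbVar.K817.VeryAmple

/-!
# Normal generation on integral curves of arithmetic genus one

`X` integral, proper over an infinite field `k`, of dimension one with `dim_k H^1(X, O_X) = 1`, and `L` an
invertible module of degree at least three: the section ring of `L` is generated in degree one.
-/

set_option autoImplicit false
universe u
open CategoryTheory CategoryTheory.Limits AlgebraicGeometry TopologicalSpace Opposite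

namespace K82.GenusOneSys

open Groth.Agent.Fdesc.LocGen Groth.Agent.Ega2 Groth.Agent.Ega2.TensPow Groth.Agent.CurvesB
open K82.GenusOneSec K82.SubAlg

variable (k : Type u) [Field k] {X : Scheme.{u}} [X.Over (Spec (CommRingCat.of k))] {L : X.Modules}

/-- Functions on the generating locus as an algebra. -/
noncomputable abbrev alg (s : Coh.structureModule X ⟶ L) : Algebra k Γ(X, CohB1.genLocus L s) :=
  ((ores le_top).comp (HZero.gl k X)).toAlgebra

/-- The sections of `L^n` as a space of functions. -/
noncomputable def Q (s : Coh.structureModule X ⟶ L) (n : ℕ) :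
    letI := alg k s
    Coh.HH X (CohB1.tensorPow L n) 0 →ₗ[k] Γ(X, CohB1.genLocus L s) :=
  letI := alg k s
  { toFun := fun m => q s n (HZero.equivAdd _ m)
    map_add' := fun a b => by rw [map_add, q_add]
    map_smul' := fun c a => by
      rw [HZero.equivAdd_smul_over, q_smul, Algebra.smul_def]
      rfl }

theorem mem_range_Q (s : Coh.structureModule X ⟶ L) (n : ℕ) (f : Γ(X, CohB1.genLocus L s)) :
    letI := alg k s
    f ∈ LinearMap.range (Q k s n) ↔ ∃ m : Γ(CohB1.tensorPow L n, ⊤), q s n m = f := by
  constructor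
  · rintro ⟨m, rfl⟩
    exact ⟨_, rfl⟩
  · rintro ⟨m, rfl⟩
    exact ⟨(HZero.equivAdd _).symm m, congrArg (q s n) ((HZero.equivAdd _).apply_symm_apply m)⟩

section Curve

variable [IsIntegral X] [IsProper (X ↘ (Spec (CommRingCat.of k)))] (hdim : topologicalKrullDim X = 1)
  (hg : Curv2.genus k X = 1) (hL : PicF.IsInvertible L)

include hdim hg hL in
theorem subsingleton_H1 (hdeg : 1 ≤ Curv2.deg k X L 1) (n : ℕ) :
    Subsingleton (Coh.HH X (CohB1.tensorPow L (n + 1)) 1) := by
  have h0 := Groth.Agent.Curves.K327.GenusOneH0.finrank_h0_eq_one k X hg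
  refine K333.FibreVA.subsingleton_h1 k X hdim h0 _ (isInvertible_tensorPow hL (n + 1)) ?_
  rw [hg, Groth.Agent.S1530.deg_tensorPow k hdim hL (n + 1)]
  push_cast
  nlinarith

include hdim hg hL in
theorem finrank_H0 (d : ℕ) (hd : Curv2.deg k X L 1 = d) (hd1 : 1 ≤ d) (n : ℕ) (hn : 1 ≤ n) :
    Module.finrank k (Coh.HH X (CohB1.tensorPow L n) 0) = n * d := by
  have hN : IsNoetherian X := K817.VeryAmple.isNoetherian k X
  have h0 := Groth.Agent.Curves.K327.GenusOneH0.finrank_h0_eq_one k X hg
  obtain ⟨m, rfl⟩ : ∃ m, n = m + 1 := ⟨n - 1, by omega⟩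
  have h1 := subsingleton_H1 k hdim hg hL (by rw [hd]; exact_mod_cast hd1) m
  have h2 := Groth.Agent.S1530.deg_tensorPow k hdim hL (m + 1)
  have h3 : Module.finrank k (Coh.HH X (Coh.structureModule X) 1) = 1 := hg
  unfold Curv2.deg at h2 hd
  have h5 : Module.finrank k (Coh.HH X (CohB1.tensorPow L (m + 1)) 1) = 0 :=
    Module.finrank_zero_of_subsingleton
  rw [Groth.Agent.S1530.euler_eq k hdim, Groth.Agent.S1530.euler_eq k hdim (Coh.structureModule X), h0, h3,
    h5] at h2
  rw [Groth.Agent.S1530.euler_eq k hdim (Coh.structureModule X), h0, h3] at hd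
  push_cast at h2
  have h4 : (Module.finrank k (Coh.HH X (CohB1.tensorPow L (m + 1)) 0) : ℤ) = ((m + 1) * d : ℕ) := by
    push_cast
    have h6 : Curv2.euler k X L - 1 * (1 - 1) = (d : ℤ) := by exact_mod_cast hd
    have h7 : Curv2.euler k X L = d := by linarith
    rw [h7] at h2
    linarith
  exact_mod_cast h4

end Curve

end K82.GenusOneSys
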