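import Mathlib.Algebra.Algebra.Operations
import Mathlib.LinearAlgebra.FiniteDimensional.Basic
import Mathlib.LinearAlgebra.FiniteDimensional.Lemmas
import Mathlib.Tactic.Linarith

/-!
# Section rings of curves of arithmetic genus one

A purely algebraic statement: let `F 0 ⊆ F 1 ⊆ F 2 ⊆ …` be a filtration by finite-dimensional subspaces of a
domain with `F m · F n ⊆ F (m + n)`, `F 0 = k`, `dim F n = n d` and an element `x` of `F 1` such that
`F (n + 1) = F n + x F n` for `n ≥ 2` and `F m ⊇ {v ∈ F (m + 1) | x v ∈ F (m + 1)}`.  If `d ≥ 3` then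
`F 2` is spanned by the products of elements of `F 1`.
-/

universe u v

namespace K82.SubAlg

open Module

variable {k : Type u} [Field k] {A : Type v} [CommRing A] [IsDomain A] [Algebra k A]

/-- The data of sections of powers of a line bundle of degree `d` on a curve of genus one, divided by the powers
of a section. -/
structure Sys (F : ℕ → Submodule k A) (x : A) (d : ℕ) : Prop where
  one : (1 : A) ∈ F 0
  zero : finrank k (F 0) = 1
  one_mem : (1 : A) ∈ F 1
  mul : ∀ m n a b, a ∈ F m → b ∈ F n → a * b ∈ F (m + n)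
  x_mem : x ∈ F 1
  x_ne : x ≠ 0
  fin : ∀ n, Module.Finite k (F n)
  dim : ∀ n, 1 ≤ n → finrank k (F n) = n * d
  gen : ∀ n, 2 ≤ n → ∀ z ∈ F (n + 1), ∃ a ∈ F n, ∃ b ∈ F n, z = a + x * b
  ker : ∀ m, ∀ v ∈ F (m + 1), x * v ∈ F (m + 1) → v ∈ F m

/-- Multiplication of a subspace by an element. -/
def xm (r : A) (P : Submodule k A) : Submodule k A := P.map (LinearMap.mulLeft k r)

omit [IsDomain A] in
theorem mem_xm {r : A} {P : Submodule k A} {z : A} : z ∈ xm r P ↔ ∃ y ∈ P, r * y = z := by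
  simp [xm]

theorem finrank_xm {r : A} (hr : r ≠ 0) (P : Submodule k A) : finrank k (xm r P) = finrank k P := by
  exact (Submodule.equivMapOfInjective (LinearMap.mulLeft k r)
    (fun a b hab => mul_left_cancel₀ hr hab) P).finrank_eq.symm

omit [IsDomain A] in
instance finite_xm (r : A) (P : Submodule k A) [Module.Finite k P] : Module.Finite k (xm r P) := by
  unfold xm; infer_instance

omit [IsDomain A] in
theorem xm_mul (r : A) (P Q : Submodule k A) : xm r (P * Q) = xm r P * Q := by
  have h : ∀ P : Submodule k A, xm r P = Submodule.span k {r} * P := by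
    intro P
    ext z
    rw [mem_xm, Submodule.mem_span_singleton_mul]
  rw [h, h, mul_assoc]

variable {F : ℕ → Submodule k A} {x : A} {d : ℕ}

namespace Sys

variable (h : Sys F x d)

include h

set_option linter.unusedSectionVars false

theorem mono (n : ℕ) : F n ≤ F (n + 1) := fun a ha => by
  have := h.mul n 1 a 1 ha h.one_mem
  rwa [mul_one] at this

theorem pow_mem (n : ℕ) : x ^ n ∈ F n := by
  induction n with
  | zero => rw [pow_zero]; exact h.one
  | succ n ih => rw [pow_succ]; exact h.mul n 1 _ _ ih h.x_mem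

theorem pow_le (n : ℕ) : F 1 ^ n ≤ F n := by
  induction n with
  | zero =>
    rw [pow_zero, Submodule.one_eq_span, Submodule.span_le]
    rintro _ rfl
    exact h.one
  | succ n ih =>
    rw [pow_succ, Submodule.mul_le]
    intro a ha b hb
    exact h.mul n 1 a b (ih ha) hb

theorem pow_mono_succ (n : ℕ) : F 1 ^ n ≤ F 1 ^ (n + 1) := by
  intro a ha
  rw [pow_succ]
  have := Submodule.mul_mem_mul ha h.one_mem
  rwa [mul_one] at this

theorem pow_mono {m n : ℕ} (hmn : m ≤ n) : F 1 ^ m ≤ F 1 ^ n :=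
  monotone_nat_of_le_succ h.pow_mono_succ hmn

theorem finite_pow (n : ℕ) : Module.Finite k (F 1 ^ n : Submodule k A) := by
  have := h.fin n
  exact Submodule.finiteDimensional_of_le (h.pow_le n)

theorem mem_zero {v : A} (hv : v ∈ F 1) (n : ℕ) (hn : x ^ n * v ∈ F n) : v ∈ F 0 := by
  induction n with
  | zero => rwa [pow_zero, one_mul] at hn
  | succ n ih =>
    apply ih
    have h1 : x ^ n * v ∈ F (n + 1) := h.mul n 1 _ _ (h.pow_mem n) hv
    apply h.ker n _ h1
    rwa [pow_succ', mul_assoc] at hn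

theorem finrank_inf_le (P : Submodule k A) (n : ℕ) (hP : P ≤ F n) :
    finrank k (P ⊓ xm (x ^ n) (F 1) : Submodule k A) ≤ 1 := by
  have := h.fin 0
  have h1 : finrank k (P ⊓ xm (x ^ n) (F 1) : Submodule k A) ≤ finrank k (xm (x ^ n) (F 0)) := by
    apply Submodule.finrank_mono
    rintro z ⟨hz, hz'⟩
    obtain ⟨v, hv, rfl⟩ := mem_xm.1 hz'
    exact mem_xm.2 ⟨v, h.mem_zero hv n (hP hz), rfl⟩
  rwa [finrank_xm (pow_ne_zero n h.x_ne) (F 0), h.zero] at h1

theorem finrank_one : finrank k (F 1) = d := by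
  rw [h.dim 1 le_rfl, one_mul]

theorem finrank_sup_ge (P : Submodule k A) [Module.Finite k P] (n : ℕ) (hP : P ≤ F n) :
    finrank k P + d ≤ finrank k (P ⊔ xm (x ^ n) (F 1) : Submodule k A) + 1 := by
  have := h.fin 1
  have h1 := Submodule.finrank_sup_add_finrank_inf_eq P (xm (x ^ n) (F 1))
  have h2 := h.finrank_inf_le P n hP
  rw [finrank_xm (pow_ne_zero n h.x_ne), h.finrank_one] at h1
  omega

/-- The lower bound. -/
theorem lower (n : ℕ) : finrank k (F 1 ^ n : Submodule k A) + d ≤
    finrank k (F 1 ^ (n + 1) : Submodule k A) + 1 := by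
  have := h.finite_pow n
  have := h.finite_pow (n + 1)
  refine (h.finrank_sup_ge (F 1 ^ n) n (h.pow_le n)).trans ?_
  apply Nat.add_le_add_right
  apply Submodule.finrank_mono
  refine sup_le (h.pow_mono_succ n) ?_
  intro z hz
  obtain ⟨v, hv, rfl⟩ := mem_xm.1 hz
  rw [pow_succ]
  exact Submodule.mul_mem_mul (Submodule.pow_mem_pow _ h.x_mem n) hv

/-- If the products do not span, then there is a two term description of the products. -/
theorem mul_eq (hne : F 1 * F 1 ≠ F 2) : F 1 * F 1 = F 1 ⊔ xm x (F 1) := by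
  have := h.fin 1
  have := h.fin 2
  have hle2 : F 1 * F 1 ≤ F 2 := Submodule.mul_le.2 fun a ha b hb => h.mul 1 1 a b ha hb
  have hfin : Module.Finite k (F 1 * F 1 : Submodule k A) := Submodule.finiteDimensional_of_le hle2
  have hle : F 1 ⊔ xm x (F 1) ≤ F 1 * F 1 := by
    refine sup_le (fun a ha => ?_) (fun z hz => ?_)
    · have := Submodule.mul_mem_mul ha h.one_mem
      rwa [mul_one] at this
    · obtain ⟨v, hv, rfl⟩ := mem_xm.1 hz
      exact Submodule.mul_mem_mul h.x_mem hv
  symm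
  apply Submodule.eq_of_le_of_finrank_le hle
  have h1 := h.finrank_sup_ge (F 1) 1 le_rfl
  rw [pow_one, h.finrank_one] at h1
  have h2 : finrank k (F 1 * F 1 : Submodule k A) < finrank k (F 2) :=
    Submodule.finrank_lt_finrank_of_lt (lt_of_le_of_ne hle2 hne)
  rw [h.dim 2 (by norm_num)] at h2
  omega

theorem pow_eq (hne : F 1 * F 1 ≠ F 2) (n : ℕ) :
    F 1 ^ (n + 2) = F 1 ^ (n + 1) ⊔ xm x (F 1 ^ (n + 1)) := by
  have h1 : F 1 ^ (n + 2) = (F 1 * F 1) * F 1 ^ n := by
    rw [pow_add, pow_two, mul_comm]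
  rw [h1, h.mul_eq hne, Submodule.sup_mul, ← xm_mul, ← pow_succ']

/-- The dimensions. -/
theorem finrank_pow (hd : 1 ≤ d) (hne : F 1 * F 1 ≠ F 2) (n : ℕ) :
    finrank k (F 1 ^ n : Submodule k A) = n * (d - 1) + 1 := by
  have h0 : finrank k (F 1 ^ 0 : Submodule k A) = 1 := by
    rw [pow_zero, Submodule.one_eq_span]
    exact finrank_span_singleton one_ne_zero
  have h1 : finrank k (F 1 ^ 1 : Submodule k A) = d := by
    rw [pow_one, h.finrank_one]
  have hup : ∀ n, finrank k (F 1 ^ (n + 1) : Submodule k A) + 1 ≤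
      finrank k (F 1 ^ n : Submodule k A) + d := by
    intro n
    induction n with
    | zero => rw [h0, h1, add_comm]
    | succ n ih =>
      have := h.finite_pow n
      have := h.finite_pow (n + 1)
      have h2 := Submodule.finrank_sup_add_finrank_inf_eq (F 1 ^ (n + 1)) (xm x (F 1 ^ (n + 1)))
      rw [← h.pow_eq hne, finrank_xm h.x_ne] at h2
      have h3 : finrank k (F 1 ^ n : Submodule k A) ≤
          finrank k (F 1 ^ (n + 1) ⊓ xm x (F 1 ^ (n + 1)) : Submodule k A) := by
        rw [← finrank_xm h.x_ne (F 1 ^ n)]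
        apply Submodule.finrank_mono
        intro z hz
        obtain ⟨v, hv, rfl⟩ := mem_xm.1 hz
        refine ⟨?_, mem_xm.2 ⟨v, h.pow_mono_succ n hv, rfl⟩⟩
        rw [pow_succ']
        exact Submodule.mul_mem_mul h.x_mem hv
      change finrank k (F 1 ^ (n + 2) : Submodule k A) + 1 ≤ _
      omega
  induction n with
  | zero => rw [h0]; simp
  | succ n ih =>
    have h2 := hup n
    have h3 := h.lower n
    rw [ih] at h2 h3
    have h4 : (n + 1) * (d - 1) = n * (d - 1) + (d - 1) := by ring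
    omega

theorem exists_common (hP : ∀ r ∈ F 2, ∃ j, ∃ a ∈ F 1 ^ j, a ≠ 0 ∧ ∃ i, a * r ∈ F 1 ^ i) :
    ∃ a : A, a ≠ 0 ∧ ∃ i, ∀ r ∈ F 2, a * r ∈ F 1 ^ i := by
  classical
  have := h.fin 2
  obtain ⟨S, hS⟩ : (F 2).FG := (Module.Finite.iff_fg).1 (h.fin 2)
  have key : ∀ T : Finset A, (↑T : Set A) ⊆ F 2 → ∃ j, ∃ a ∈ F 1 ^ j, a ≠ 0 ∧
      ∃ i, ∀ r ∈ T, a * r ∈ F 1 ^ i := by
    intro T
    induction T using Finset.induction_on with
    | empty => exact fun _ => ⟨0, 1, by rw [pow_zero]; exact Submodule.one_le.1 le_rfl, one_ne_zero, 0, by simp⟩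
    | insert r T hr ih =>
      intro hT
      rw [Finset.coe_insert, Set.insert_subset_iff] at hT
      obtain ⟨j, a, ha, ha0, i, hi⟩ := ih hT.2
      obtain ⟨j', a', ha', ha0', i', hi'⟩ := hP r hT.1
      refine ⟨j + j', a * a', ?_, mul_ne_zero ha0 ha0', (j' + i) + (j + i'), ?_⟩
      · rw [pow_add]
        exact Submodule.mul_mem_mul ha ha'
      · intro s hs
        rw [Finset.mem_insert] at hs
        rcases hs with rfl | hs
        · refine h.pow_mono (Nat.le_add_left (j + i') (j' + i)) ?_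
          rw [mul_assoc, pow_add]
          exact Submodule.mul_mem_mul ha hi'
        · refine h.pow_mono (Nat.le_add_right (j' + i) (j + i')) ?_
          rw [mul_comm a a', mul_assoc, pow_add]
          exact Submodule.mul_mem_mul ha' (hi s hs)
  obtain ⟨j, a, -, ha0, i, hi⟩ := key S (by rw [← hS]; exact Submodule.subset_span)
  refine ⟨a, ha0, i, fun r hr => ?_⟩
  rw [← hS] at hr
  induction hr using Submodule.span_induction with
  | mem r hr => exact hi r hr
  | zero => rw [mul_zero]; exact zero_mem _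
  | add r s _ _ hr hs => rw [mul_add]; exact add_mem hr hs
  | smul c r _ hr => rw [mul_smul_comm]; exact Submodule.smul_mem _ c hr

theorem mul_mem_pow (hne : F 1 * F 1 ≠ F 2) {a : A} {i : ℕ} (hi : ∀ r ∈ F 2, a * r ∈ F 1 ^ i) (n : ℕ) :
    ∀ z ∈ F (n + 2), a * z ∈ F 1 ^ (i + 1 + n) := by
  induction n with
  | zero => exact fun z hz => h.pow_mono (by omega) (hi z hz)
  | succ n ih =>
    intro z hz
    obtain ⟨b, hb, c, hc, rfl⟩ := h.gen (n + 2) (by omega) z hz
    have h1 : i + 1 + (n + 1) = (i + n) + 2 := by omega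
    have h2 : i + 1 + n = (i + n) + 1 := by omega
    rw [h2] at ih
    rw [h1, h.pow_eq hne, mul_add]
    refine Submodule.add_mem_sup (ih b hb) (mem_xm.2 ⟨a * c, ih c hc, by ring⟩)

/-- **The theorem.** -/
theorem mul_self_eq (hd : 3 ≤ d) : F 1 * F 1 = F 2 := by
  by_contra hne
  by_cases hP : ∀ r ∈ F 2, ∃ j, ∃ a ∈ F 1 ^ j, a ≠ 0 ∧ ∃ i, a * r ∈ F 1 ^ i
  · obtain ⟨a, ha0, i, hi⟩ := h.exists_common hP
    have h1 : ∀ n, (n + 2) * d ≤ (i + 1 + n) * (d - 1) + 1 := by
      intro n
      have := h.finite_pow (i + 1 + n)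
      rw [← h.dim (n + 2) (by omega), ← finrank_xm ha0 (F (n + 2)),
        ← h.finrank_pow (by omega) hne]
      apply Submodule.finrank_mono
      intro z hz
      obtain ⟨v, hv, rfl⟩ := mem_xm.1 hz
      exact h.mul_mem_pow hne hi n v hv
    obtain ⟨e, rfl⟩ : ∃ e, d = e + 1 := ⟨d - 1, by omega⟩
    have h2 := h1 ((i + 1) * (e + 1))
    rw [Nat.add_sub_cancel] at h2
    nlinarith
  · push Not at hP
    obtain ⟨r, hr, hP⟩ := hP
    have hr0 : r ≠ 0 := by
      rintro rfl
      exact hP 0 1 (by rw [pow_zero]; exact Submodule.one_le.1 le_rfl) one_ne_zero 0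
        (by rw [mul_zero]; exact zero_mem _)
    have h1 : ∀ n, 2 * (n * (d - 1) + 1) ≤ (n + 2) * d := by
      intro n
      have := h.finite_pow n
      have := h.fin (n + 2)
      have h2 := Submodule.finrank_sup_add_finrank_inf_eq (F 1 ^ n) (xm r (F 1 ^ n))
      have h3 : (F 1 ^ n ⊓ xm r (F 1 ^ n) : Submodule k A) = ⊥ := by
        rw [eq_bot_iff]
        rintro z ⟨hz, hz'⟩
        obtain ⟨v, hv, rfl⟩ := mem_xm.1 hz'
        by_cases hv0 : v = 0
        · rw [hv0, mul_zero]; exact zero_mem _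
        · exact absurd (by rw [mul_comm]; exact hz) (hP n v hv hv0 n)
      have h4 : finrank k (F 1 ^ n ⊔ xm r (F 1 ^ n) : Submodule k A) ≤ finrank k (F (n + 2)) := by
        apply Submodule.finrank_mono
        refine sup_le ?_ ?_
        · exact (h.pow_le n).trans ((h.mono n).trans (h.mono (n + 1)))
        · intro z hz
          obtain ⟨v, hv, rfl⟩ := mem_xm.1 hz
          rw [mul_comm]
          exact h.mul n 2 v r (h.pow_le n hv) hr
      rw [h3, finrank_bot, finrank_xm hr0, h.finrank_pow (by omega) hne, add_zero] at h2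
      rw [h2, h.dim (n + 2) (by omega)] at h4
      omega
    obtain ⟨e, rfl⟩ : ∃ e, d = e + 1 := ⟨d - 1, by omega⟩
    have h2 := h1 (2 * (e + 1))
    rw [Nat.add_sub_cancel] at h2
    nlinarith

end Sys

end K82.SubAlg
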